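import Groth.Agent.L03.Ruled.Fibre
import Groth.Agent.L16.PushEdge
import Groth.Agent.L20.DescLocus.Unit
import Groth.Agent.L22.Inter.Top
import Mathlib.AlgebraicGeometry.Morphisms.FinitePresentation

/-!
# Direct images on a ruled surface
-/

set_option autoImplicit false
set_option linter.style.haveILetI false
set_option linter.unusedSectionVars false
set_option backward.isDefEq.respectTransparency false

universe u

open CategoryTheory CategoryTheory.Limits AlgebraicGeometry TopologicalSpace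
open Groth.L22 Groth.L22.Inter Groth.L22.Nef Groth.L22.Big Groth.L03.SurfNum

noncomputable section

namespace Groth.L03.Ruled

variable {k : Type u} [Field k] [IsAlgClosed k] {X : Scheme.{u}} [X.Over (Spec (CommRingCat.of k))]
  [IsProper (X ↘ Spec (CommRingCat.of k))] [IsIntegral X] (hd : topologicalKrullDim X = (2 : ℕ))
  (hreg : ∀ x : X, IsRegularLocalRing (X.presheaf.stalk x))
  {C : Scheme.{u}} [C.Over (Spec (CommRingCat.of k))] [IsProper (C ↘ Spec (CommRingCat.of k))]
  [Smooth (C ↘ Spec (CommRingCat.of k))] [IsIntegral C] (hdimC : topologicalKrullDim C = 1)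
  (π : X ⟶ C) [π.IsOver (Spec (CommRingCat.of k))] [Surjective π]
  (hfib : ∀ y : C, IsClosed ({y} : Set C) → Nonempty (π.fiber y ≅ CohB1.ProjSpace 1 k))

include k hd hreg hdimC hfib

theorem closed_below (y : C) : ∃ z : C, IsClosed ({z} : Set C) ∧ y ⤳ z := by
  haveI := Groth.L21.RR.isNoetherian_of_proper (X := C) k
  obtain ⟨z, hz, hz'⟩ := isClosed_closure.exists_closed_singleton (Set.singleton_nonempty y).closure
  exact ⟨z, hz', specializes_iff_mem_closure.2 hz⟩

variable {L : X.Modules} (hL : PicF.IsInvertible L)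
  (hdeg : ∀ (y : C), IsClosed ({y} : Set C) → ii k L (ClSub.idealMod (π.fiberι y).ker) ≤ 0)

include hL hdeg

/-- Modules of nonnegative fibre degree have no higher direct images. -/
theorem isZero_Rpush [HasInjectiveResolutions X.Modules] (p : ℕ) (hp : 0 < p) :
    IsZero ((Coh.Rpush π p).obj L) := by
  haveI := Groth.L21.RR.isNoetherian_of_proper (X := X) k
  haveI := Groth.L21.RR.isNoetherian_of_proper (X := C) k
  haveI : C.IsSeparated := ⟨by rw [← terminal.comp_from (C ↘ Spec (CommRingCat.of k))]; infer_instance⟩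
  haveI : IsProper π := by
    haveI : IsProper (π ≫ (C ↘ Spec (CommRingCat.of k))) := by rw [comp_over]; infer_instance
    exact IsProper.of_comp π (C ↘ Spec (CommRingCat.of k))
  haveI := Groth.L03.SurfNum.flat_of_surjective k hdimC π
  haveI : Coh.IsQCoh L := Groth.L21.Extend.isQCoh_of_isInvertible hL
  have hfp : CohB1.IsFP L := Groth.L18.LFP.isFP_of_isFinLocFree _ (Groth.L16.Existence.isFinLocFree_of_isInvertible hL)
  have hfl := Groth.Agent.Pic0.isFlatOver_of_isInvertible π hL
  refine Groth.L21.Mod.isZero_of_restrict (fun _ : Unit => (⊤ : C.Opens).ι) (fun x => ⟨(), ⟨x, trivial⟩, rfl⟩) _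
    fun _ => Groth.L17.BC.isZero_restrict_of_forall _ ⊤ fun y _ => ?_
  obtain ⟨z, hz, hyz⟩ := closed_below hd hreg hdimC π hfib y
  obtain ⟨φ⟩ := hfib z hz
  obtain ⟨U, hzU, hU⟩ := Groth.L17.BC.exists_isZero_of_vanishing π L hfp hfl z p
    ((fibre_vanish hd hreg hdimC π z hz φ hL (hdeg z hz)).1 p hp)
  exact ⟨U, hyz.mem_open U.2 hzU, hU⟩

/-- The direct image is locally free, of rank the fibre degree plus one. -/
theorem isFinLocFreeOfRank_push [HasInjectiveResolutions X.Modules] (n : ℕ)
    (hn : ∀ (y : C), IsClosed ({y} : Set C) → ii k L (ClSub.idealMod (π.fiberι y).ker) = -(n : ℚ)) :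
    FlatMod.IsFinLocFreeOfRank (n + 1) ((Coh.push π).obj L) := by
  haveI := Groth.L21.RR.isNoetherian_of_proper (X := X) k
  haveI := Groth.L21.RR.isNoetherian_of_proper (X := C) k
  haveI : C.IsSeparated := ⟨by rw [← terminal.comp_from (C ↘ Spec (CommRingCat.of k))]; infer_instance⟩
  haveI : IsProper π := by
    haveI : IsProper (π ≫ (C ↘ Spec (CommRingCat.of k))) := by rw [comp_over]; infer_instance
    exact IsProper.of_comp π (C ↘ Spec (CommRingCat.of k))
  haveI := Groth.L03.SurfNum.flat_of_surjective k hdimC π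
  haveI : Coh.IsQCoh L := Groth.L21.Extend.isQCoh_of_isInvertible hL
  have hfp : CohB1.IsFP L := Groth.L18.LFP.isFP_of_isFinLocFree _ (Groth.L16.Existence.isFinLocFree_of_isInvertible hL)
  have hfl := Groth.Agent.Pic0.isFlatOver_of_isInvertible π hL
  intro y
  obtain ⟨z, hz, hyz⟩ := closed_below hd hreg hdimC π hfib y
  obtain ⟨φ⟩ := hfib z hz
  obtain ⟨hvan, hrk⟩ := fibre_vanish hd hreg hdimC π z hz φ hL (hdeg z hz)
  obtain ⟨U, hzU, ⟨e⟩⟩ := Groth.L17.BC.exists_free_of_vanishing π L hfp hfl z 0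
    (fun q hq => absurd hq (Nat.succ_ne_zero q)) (hvan 1 one_pos)
  have hn' : CohIII.fiberRank π L 0 z = n + 1 := by
    rw [hn z hz] at hrk
    have : (CohIII.fiberRank π L 0 z : ℚ) = ((n + 1 : ℕ) : ℚ) := by push_cast; linarith
    exact_mod_cast this
  rw [hn'] at e
  haveI := Groth.L17.PushQCoh.additive_push π
  exact ⟨U, hyz.mem_open U.2 hzU,
    ⟨(Scheme.Modules.restrictFunctor U.ι).mapIso (((Coh.push π).rightDerivedZeroIsoSelf).app L).symm ≪≫ e⟩⟩

/-- Cohomology is computed on the base. -/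
theorem nonempty_HH_equiv [HasInjectiveResolutions X.Modules] (i : ℕ) :
    Nonempty (Coh.HH X L i ≃ₗ[k] Coh.HH C ((Coh.push π).obj L) i) := by
  refine ⟨(LinearEquiv.ofBijective
    { toFun := CohPull.pushEdge π L i
      map_add' := fun a b => map_add (CohPull.pushEdge π L i) a b
      map_smul' := fun c v => ?_ }
    (Groth.L16.PushEdge.pushEdge_bijective_of_isZero_Rpush π L
      (fun q hq => isZero_Rpush hd hreg hdimC π hfib hL hdeg q hq) i)).symm⟩
  refine (Groth.L14.LocHilbLift.pushEdge_smul π L i (Coh.toGlobal (C ↘ Spec (CommRingCat.of k)) c) v).trans ?_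
  refine congrArg (fun r : Coh.Γtop X => r • CohPull.pushEdge π L i v) ?_
  show π.appTop ((C ↘ Spec (CommRingCat.of k)).appTop _) = (X ↘ Spec (CommRingCat.of k)).appTop _
  rw [← comp_over π (Spec (CommRingCat.of k)), Scheme.Hom.comp_appTop]
  rfl

omit hL hdeg in
/-- The functions on the preimage of an open are those of the open. -/
theorem bijective_app (σ : C ⟶ X) (hσ : σ ≫ π = 𝟙 C) (U : C.Opens) : Function.Bijective (π.app U).hom := by
  haveI := Groth.L21.RR.isNoetherian_of_proper (X := X) k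
  haveI : JacobsonSpace X := LocallyOfFiniteType.jacobsonSpace (X ↘ Spec (CommRingCat.of k))
  haveI : JacobsonSpace C := LocallyOfFiniteType.jacobsonSpace (C ↘ Spec (CommRingCat.of k))
  haveI : C.IsSeparated := ⟨by rw [← terminal.comp_from (C ↘ Spec (CommRingCat.of k))]; infer_instance⟩
  haveI : IsProper π := by
    haveI : IsProper (π ≫ (C ↘ Spec (CommRingCat.of k))) := by rw [comp_over]; infer_instance
    exact IsProper.of_comp π (C ↘ Spec (CommRingCat.of k))
  have hle : U ≤ σ ⁻¹ᵁ (π ⁻¹ᵁ U) := fun z hz => by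
    show π (σ z) ∈ U
    rw [← Scheme.Hom.comp_apply, hσ]
    exact hz
  have hret : ∀ b : Γ(C, U), (σ.appLE (π ⁻¹ᵁ U) U hle).hom ((π.app U).hom b) = b := by
    intro b
    have h1 : π.app U ≫ σ.appLE (π ⁻¹ᵁ U) U hle = 𝟙 _ := by
      rw [Scheme.Hom.app_eq_appLE, Scheme.Hom.appLE_comp_appLE]
      simp only [hσ]
      rw [Scheme.Hom.appLE, Scheme.Hom.id_app, Category.id_comp]
      exact C.presheaf.map_id _
    exact congr($h1 b)
  refine ⟨fun a b hab => by rw [← hret a, ← hret b, hab], fun a => ⟨(σ.appLE (π ⁻¹ᵁ U) U hle).hom a, ?_⟩⟩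
  rw [← sub_eq_zero]
  set d := (π.app U).hom ((σ.appLE (π ⁻¹ᵁ U) U hle).hom a) - a
  have hd0 : (σ.appLE (π ⁻¹ᵁ U) U hle).hom d = 0 := by
    simp only [d, map_sub, hret, sub_self]
  -- `d` is a nonunit at every closed point
  have hzero : X.basicOpen d = ⊥ := by
    by_contra hne
    have hne' : (X.basicOpen d : Set X).Nonempty := by
      by_contra hh
      exact hne (Opens.ext (Set.not_nonempty_iff_eq_empty.1 hh))
    obtain ⟨x, hx, hxc⟩ := nonempty_inter_closedPoints hne' (X.basicOpen d).2.isLocallyClosed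
    rw [mem_closedPoints_iff] at hxc
    have hxU : π x ∈ U := X.basicOpen_le d hx
    have hyc : IsClosed ({π x} : Set C) := by
      rw [← Set.image_singleton]
      exact π.isClosedMap _ hxc
    obtain ⟨φ⟩ := hfib (π x) hyc
    let F := π.fiber (π x)
    let i := π.fiberι (π x)
    haveI : IsIntegral (CohB1.ProjSpace 1 k) := Groth.L16.ProjSpace.isIntegral 1 k
    haveI : Nonempty F := ⟨φ.inv (genericPoint (CohB1.ProjSpace 1 k))⟩
    haveI : IsIntegral F := isIntegral_of_isOpenImmersion φ.hom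
    haveI : IsProper (π.fiberToSpecResidueField (π x)) :=
      inferInstanceAs (IsProper (pullback.snd π (C.fromSpecResidueField (π x))))
    have hall : ∀ w : F, i w ∈ π ⁻¹ᵁ U := fun w => by
      have hw : i w ∈ π ⁻¹' {π x} := by
        rw [← Scheme.Hom.range_fiberι]
        exact Set.mem_range_self w
      show π (i w) ∈ U
      rw [show π (i w) = π x from hw]
      exact hxU
    let dF : Γ(F, ⊤) := (i.appLE (π ⁻¹ᵁ U) ⊤ (fun w _ => hall w)).hom d
    have hmem : ∀ w : F, w ∈ F.basicOpen dF ↔ i w ∈ X.basicOpen d := fun w => by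
      have h1 : F.basicOpen dF = i ⁻¹ᵁ X.basicOpen d := by
        rw [Scheme.basicOpen_appLE, top_inf_eq]
      rw [h1]
      rfl
    obtain ⟨w, hw⟩ : x ∈ Set.range i := by rw [Scheme.Hom.range_fiberι]; rfl
    obtain ⟨w', hw'⟩ : σ (π x) ∈ Set.range i := by
      rw [Scheme.Hom.range_fiberι]
      show π (σ (π x)) = π x
      rw [← Scheme.Hom.comp_apply, hσ]
      rfl
    have hne0 : dF ≠ 0 := fun h0 => by
      have h := (hmem w).2 (hw.symm ▸ hx)
      rw [h0, Scheme.basicOpen_zero] at h
      exact h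
    obtain ⟨c, hc⟩ := (AlgebraicGeometry.isField_of_universallyClosed (K := C.residueField (π x))
      (π.fiberToSpecResidueField (π x))).mul_inv_cancel hne0
    have h2 := (hmem w').1 (by rw [F.basicOpen_of_isUnit (IsUnit.of_mul_eq_one _ hc)]; trivial)
    rw [hw'] at h2
    have h3 : π x ∈ C.basicOpen ((σ.appLE (π ⁻¹ᵁ U) U hle).hom d) := by
      rw [Scheme.basicOpen_appLE]
      exact ⟨hxU, h2⟩
    rw [hd0, Scheme.basicOpen_zero] at h3
    exact h3
  exact (basicOpen_eq_bot_iff d).1 hzero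

end Groth.L03.Ruled
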