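import Groth.Agent.L03.BlowPt.Rational
import Groth.Agent.L03.BlowPt.ZeroPoint
import Groth.Agent.L03.SurfNum.Fibre
import Groth.Agent.L03.SurfNum.CurveDegree
import Groth.Agent.L21.RR.ProjLineGenus
import Groth.Agent.L14.LocHilb.Lift.Obs.Transport
import Groth.Agent.L17.BC.GenApply
import Groth.Agent.L12.CurveFam.R1
import Groth.Agent.L26.Pic0.Support
import Groth.Agent.L22.FibreDim
import Groth.Agent.L21.Disc.Cover

/-!
# Fibres of a ruled surface
-/

set_option autoImplicit false
set_option linter.style.haveILetI false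
set_option linter.unusedSectionVars false
set_option backward.isDefEq.respectTransparency false

universe u

open CategoryTheory CategoryTheory.Limits AlgebraicGeometry TopologicalSpace
open Groth.L22 Groth.L22.Inter Groth.L22.Nef Groth.L22.Big Groth.L03.SurfNum Groth.L03.BlowPt
open Groth.L03.SurfAdj (hhEquiv)
open Groth.L00.Tensor (tensorIso tensorComm tensorUnitLeft tensorUnitRight tensorAssoc)

noncomputable section

namespace Groth.L03.Ruled

/-- The dimension does not change along a bijective extension of scalars. -/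
theorem finrank_eq_of_bijective {K K' M : Type*} [Field K] [Field K'] [AddCommGroup M] [mK : Module K M]
    [mK' : Module K' M] (ψ : K → K') (hψ : Function.Bijective ψ)
    (h : ∀ (c : K) (m : M), c • m = ψ c • m) : Module.finrank K M = Module.finrank K' M :=
  congrArg Cardinal.toNat (rank_eq_of_equiv_equiv ψ (AddEquiv.refl M) hψ fun c m => h c m)

variable {k : Type u} [Field k] [IsAlgClosed k] {X : Scheme.{u}} [X.Over (Spec (CommRingCat.of k))]
  [IsProper (X ↘ Spec (CommRingCat.of k))] [IsIntegral X] (hd : topologicalKrullDim X = (2 : ℕ))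
  (hreg : ∀ x : X, IsRegularLocalRing (X.presheaf.stalk x))
  {C : Scheme.{u}} [C.Over (Spec (CommRingCat.of k))] [IsProper (C ↘ Spec (CommRingCat.of k))]
  [Smooth (C ↘ Spec (CommRingCat.of k))] [IsIntegral C] (hdimC : topologicalKrullDim C = 1)
  (π : X ⟶ C) [π.IsOver (Spec (CommRingCat.of k))] [Surjective π] (y : C) (hy : IsClosed ({y} : Set C))
  (φ : π.fiber y ≅ CohB1.ProjSpace 1 k)

include k hd hreg hdimC hy φ

/-- The fibre is a curve of genus zero. -/
theorem fibre_curve : ∃ z : X, topologicalKrullDim (closure ({z} : Set X)) = (1 : ℕ) ∧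
    (π.fiberι y).ker = pt z ∧ Curv2.euler k X (ClSub.quotMod (π.fiberι y).ker) = 1 := by
  haveI : IsClosedImmersion (C.fromSpecResidueField y) := isClosed_singleton_iff_isClosedImmersion.mp hy
  haveI : IsClosedImmersion (π.fiberι y) := inferInstanceAs (IsClosedImmersion (pullback.fst π (C.fromSpecResidueField y)))
  haveI : IsIntegral (CohB1.ProjSpace 1 k) := Groth.L16.ProjSpace.isIntegral 1 k
  haveI : Nonempty (π.fiber y) := ⟨φ.inv (genericPoint (CohB1.ProjSpace 1 k))⟩
  haveI : IsIntegral (π.fiber y) := isIntegral_of_isOpenImmersion φ.hom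
  let I := (π.fiberι y).ker
  haveI : Nonempty I.subscheme := ⟨(π.fiberι y).toImage (genericPoint (π.fiber y))⟩
  haveI : IsIntegral I.subscheme := isIntegral_of_isOpenImmersion (inv (π.fiberι y).toImage)
  let e : I.subscheme ≅ CohB1.ProjSpace 1 k := (asIso (π.fiberι y).toImage).symm ≪≫ φ
  have hdI : topologicalKrullDim I.subscheme = (1 : ℕ) := by
    rw [IsHomeomorph.topologicalKrullDim_eq _ e.hom.homeomorph.isHomeomorph,
      Groth.L16.ProjSpace.topologicalKrullDim_eq_of_field 1 k]
  have hdS : topologicalKrullDim (I.support : Set X) = 1 := by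
    rw [dim_support I, dim_closure_image I.subschemeι, hdI, Nat.cast_one]
  refine ⟨I.subschemeι (genericPoint I.subscheme),
    (dim_support I).symm.trans (hdS.trans Nat.cast_one.symm), eq_pt I,
    (Groth.L03.SurfAdj.curve_euler k I hdS).2.2 ?_⟩
  letI : I.subscheme.Over (Spec (CommRingCat.of k)) := ⟨e.hom ≫ CohB1.ProjSpace.toSpec 1 k⟩
  haveI : IsProper (CohB1.ProjSpace.toSpec 1 k) := Groth.L16.ProjSpace.isProper_toSpec 1 k
  haveI : IsProper (I.subscheme ↘ Spec (CommRingCat.of k)) :=
    inferInstanceAs (IsProper (e.hom ≫ CohB1.ProjSpace.toSpec 1 k))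
  exact Groth.L21.RR.subsingleton_h1_of_iso k e rfl

/-- Cohomology of the fibre in terms of the surface. -/
theorem fibre_HH {L : X.Modules} (hL : PicF.IsInvertible L) (p : ℕ) :
    (Subsingleton (CohIII.fiberH π L y p) ↔
      Subsingleton (Coh.HH X (CohB1.tensorMod L (ClSub.quotMod (π.fiberι y).ker)) p)) ∧
    CohIII.fiberRank π L p y = Module.finrank k (Coh.HH X (CohB1.tensorMod L (ClSub.quotMod (π.fiberι y).ker)) p) := by
  haveI : X.IsSeparated := ⟨by rw [← terminal.comp_from (X ↘ Spec (CommRingCat.of k))]; infer_instance⟩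
  haveI : IsClosedImmersion (C.fromSpecResidueField y) := isClosed_singleton_iff_isClosedImmersion.mp hy
  haveI : IsClosedImmersion (π.fiberι y) := inferInstanceAs (IsClosedImmersion (pullback.fst π (C.fromSpecResidueField y)))
  let i := π.fiberι y
  letI oF : (π.fiber y).Over (Spec (CommRingCat.of k)) := ⟨i ≫ (X ↘ Spec (CommRingCat.of k))⟩
  obtain ⟨ep⟩ : Nonempty ((Scheme.Modules.pushforward i).obj (Coh.structureModule (π.fiber y)) ≅ ClSub.quotMod i.ker) := by
    obtain ⟨u⟩ := nonempty_push_structure i.toImage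
    exact ⟨(Scheme.Modules.pushforwardCongr (Scheme.Hom.toImage_imageι i).symm).app _ ≪≫
      ((Scheme.Modules.pushforwardComp i.toImage i.ker.subschemeι).app _).symm ≪≫
      (Scheme.Modules.pushforward i.ker.subschemeι).mapIso u⟩
  haveI : Coh.IsQCoh ((Scheme.Modules.pullback i).obj L) :=
    Groth.L21.Extend.isQCoh_of_isInvertible (Groth.L18.Ample.isInvertible_pullback _ hL)
  haveI : Coh.IsQCoh (Coh.structureModule (π.fiber y)) :=
    Groth.L21.Extend.isQCoh_of_isInvertible (Groth.L18.Ample.isInvertible_structureModule _)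
  haveI := Groth.L17.ProjFormula.isIso_θ i L (Coh.structureModule (π.fiber y))
    (Groth.L16.Existence.isFinLocFree_of_isInvertible hL)
  let e : CohB1.tensorMod L (ClSub.quotMod i.ker) ≅
      (Scheme.Modules.pushforward i).obj ((Scheme.Modules.pullback i).obj L) :=
    tensorIso (Iso.refl L) ep.symm ≪≫ asIso (Groth.L17.ClosedPush.θ i (Coh.structureModule (π.fiber y)) L) ≪≫
      (Scheme.Modules.pushforward i).mapIso (tensorUnitRight _)
  obtain ⟨g⟩ := Groth.L14.LocHilbLift.nonempty_HH_pushEquiv (k := k) i rfl ((Scheme.Modules.pullback i).obj L) p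
  let E := (hhEquiv k e p).trans g
  refine ⟨E.symm.toEquiv.subsingleton_congr, ?_⟩
  refine Eq.trans ?_ E.finrank_eq.symm
  letI : Algebra k (C.residueField y) := Curv2.resAlgebra k C y
  haveI : Module.Finite k (C.residueField y) := Groth.L21.Disc.finite_residueField_of_isClosed k hy
  have hb : Function.Bijective (algebraMap k (C.residueField y)) :=
    IsAlgClosed.algebraMap_bijective_of_isIntegral
  refine (finrank_eq_of_bijective (algebraMap k (C.residueField y)) hb fun c m => ?_).symm
  show Coh.toGlobal (π.fiber y ↘ Spec (CommRingCat.of k)) c • m =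
    Coh.toGlobal (π.fiberToSpecResidueField y) (algebraMap k (C.residueField y) c) • m
  refine congrArg (fun r : Coh.Γtop (π.fiber y) => r • m) ?_
  show (i ≫ (X ↘ Spec (CommRingCat.of k))).appTop ((Scheme.ΓSpecIso (CommRingCat.of k)).inv c) =
    (π.fiberToSpecResidueField y).appTop ((Scheme.ΓSpecIso (C.residueField y)).inv (algebraMap k (C.residueField y) c))
  have h1 : i ≫ (X ↘ Spec (CommRingCat.of k)) =
      π.fiberToSpecResidueField y ≫ Spec.map (CommRingCat.ofHom (algebraMap k (C.residueField y))) := by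
    rw [RingHom.algebraMap_toAlgebra, Groth.L22.FibreDim.SpecMap_resMap k C y, ← comp_over π (Spec (CommRingCat.of k)),
      ← Category.assoc, π.fiber_fac y, Category.assoc]
  rw [h1, Scheme.Hom.comp_appTop, CommRingCat.comp_apply]
  congr 1
  exact congrArg (fun ψ => ψ.hom c)
    (Scheme.ΓSpecIso_inv_naturality (CommRingCat.ofHom (algebraMap k (C.residueField y)))).symm

/-- On a fibre, modules of nonnegative degree have no higher cohomology and `deg + 1` sections. -/
theorem fibre_vanish {L : X.Modules} (hL : PicF.IsInvertible L)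
    (hdeg : ii k L (ClSub.idealMod (π.fiberι y).ker) ≤ 0) :
    (∀ p, 0 < p → Subsingleton (CohIII.fiberH π L y p)) ∧
      (CohIII.fiberRank π L 0 y : ℚ) = 1 - ii k L (ClSub.idealMod (π.fiberι y).ker) := by
  obtain ⟨z, hz, he, hχ⟩ := fibre_curve hd hreg hdimC π y hy φ
  have hH := fun p => fibre_HH hd hreg hdimC π y hy φ hL p
  simp only [he] at hdeg hχ hH ⊢
  have hzc := Ramanujam.isEffCartier_pt k hd hreg hz
  have hdg : (degOn k (pt z) L : ℚ) = - ii k L (ClSub.idealMod (pt z)) := by
    rw [degOn_cast k (Rational.inv_of_eff k hd hreg hzc) hL, ii_comm]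
  have h0 : (0 : ℤ) ≤ degOn k (pt z) L := by
    have : ((0 : ℤ) : ℚ) ≤ degOn k (pt z) L := by rw [hdg]; push_cast; linarith
    exact_mod_cast this
  have h1 := Rational.subsingleton_h1_curve k hd hreg hz hχ hL (by omega)
  refine ⟨fun p hp => (hH p).1.2 ?_, ?_⟩
  · rcases (show p = 1 ∨ 2 ≤ p by omega) with rfl | hp2
    · exact h1
    · haveI := Groth.L21.RR.isNoetherian_of_proper (X := X) k
      letI : (pt z).subscheme.Over (Spec (CommRingCat.of k)) := ⟨(pt z).subschemeι ≫ (X ↘ (Spec (CommRingCat.of k)))⟩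
      haveI : IsProper ((pt z).subscheme ↘ Spec (CommRingCat.of k)) :=
        inferInstanceAs (IsProper ((pt z).subschemeι ≫ (X ↘ Spec (CommRingCat.of k))))
      haveI := Groth.L21.RR.isNoetherian_of_proper (X := (pt z).subscheme) k
      haveI := isIntegral_pt z
      have hd1 : topologicalKrullDim (pt z).subscheme ≤ (1 : ℕ) := by
        rw [← dim_closure_image (pt z).subschemeι, genericPoint_pt, hz]
      obtain ⟨q⟩ := Groth.L03.SurfAdj.nonempty_twistQuot_equiv k (pt z) hL p
      exact @Equiv.subsingleton _ _ q.toEquiv (subsingleton_HH_of_dim hd1 _ (by omega))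
  · have heu := Rational.euler_twist k hd hreg hzc hL
    haveI := h1
    have hH0 := (hH 0).2
    rw [he] at hH0
    rw [hχ, Module.finrank_zero_of_subsingleton
      (M := Coh.HH X (CohB1.tensorMod L (ClSub.quotMod (pt z))) 1), ← hH0] at heu
    have heu' : ((1 : ℤ) : ℚ) + degOn k (pt z) L = ((CohIII.fiberRank π L 0 y : ℤ) : ℚ) := by
      exact_mod_cast (heu.trans (by omega) : (1 : ℤ) + degOn k (pt z) L = (CohIII.fiberRank π L 0 y : ℤ))
    push_cast at heu'
    linarith

end Groth.L03.Ruled
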