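import Groth.Agent.L12.KBun.Dim
import Groth.Agent.L07.Spread.SchemeIrred
import Groth.Agent.L03.SurfFib.H1P1
import Groth.Agent.L16.ProjSpace.Basic
import Groth.Agent.L26.Weil.Axes
import Groth.Agent.L03.SurfAdj.Tools
import Groth.Agent.L03.Ruled.Fibre

/-!
# The projective bundle of a rank two module over a curve is a ruled surface
-/

set_option autoImplicit false
set_option linter.style.haveILetI false
set_option linter.unusedSectionVars false
set_option backward.isDefEq.respectTransparency false

universe u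

open CategoryTheory CategoryTheory.Limits AlgebraicGeometry TopologicalSpace Opposite

noncomputable section

namespace Groth.L03.Ruled

variable {C P : Scheme.{u}} {π : P ⟶ C} {O1 : P.Modules} {r : ℕ} (A : Groth.L12.KBun.Atlas π O1 r)

include A

theorem bundle_isIntegral [IsIntegral C] : IsIntegral P := by
  haveI : ∀ y, Nonempty (A.V y : Scheme.{u}) := fun y => ⟨⟨y, A.mem y⟩⟩
  haveI hdom : ∀ y, IsDomain Γ(C, A.V y) := fun y => inferInstance
  haveI hint : ∀ y, IsIntegral (CohB1.ProjSpace r Γ(C, A.V y)) := fun y => Groth.L16.ProjSpace.isIntegral r _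
  haveI : IsReduced P := by
    haveI : ∀ x : P, _root_.IsReduced (P.presheaf.stalk x) := fun x => by
      obtain ⟨z, hz⟩ : x ∈ (A.h (π x)).opensRange := by rw [A.range]; exact A.mem (π x)
      rw [← hz]
      haveI : IsIso ((A.h (π x)).stalkMap z) := inferInstance
      exact isReduced_of_injective _ (asIso ((A.h (π x)).stalkMap z)).commRingCatIsoToRingEquiv.injective
    exact isReduced_of_isReduced_stalk P
  have hfn : ∀ y, genericPoint C ∈ A.V y := fun y => (genericPoint_specializes y).mem_open (A.V y).2 (A.mem y)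
  have hne : ∀ y w, w ∈ A.V y → ∃ z, π z = w ∧ z ∈ Set.range (A.h y) := fun y w hw => by
    haveI : Surjective (CohB1.ProjSpace.toSpec r Γ(C, A.V y)) := inferInstance
    obtain ⟨t, ht⟩ : w ∈ Set.range (A.affine y).fromSpec := by rw [IsAffineOpen.range_fromSpec]; exact hw
    obtain ⟨z, rfl⟩ := (CohB1.ProjSpace.toSpec r Γ(C, A.V y)).surjective t
    refine ⟨A.h y z, ?_, z, rfl⟩
    rw [← Scheme.Hom.comp_apply, A.comp y, Scheme.Hom.comp_apply]; exact ht
  haveI : Nonempty P := by
    obtain ⟨z, -, -⟩ := hne (genericPoint C) _ (A.mem _)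
    exact ⟨z⟩
  haveI : IrreducibleSpace P := by
    refine Groth.L07.Spread.irreducibleSpace_of_open_cover (fun y => Set.range (A.h y))
      (fun y => (A.h y).isOpenEmbedding.isOpen_range)
      (fun z => ⟨π z, by
        rw [show Set.range (A.h (π z)) = ((A.h (π z)).opensRange : Set P) from rfl, A.range]
        exact A.mem (π z)⟩) (fun y => ?_) (fun y y' _ _ => ?_)
    · rw [← Set.image_univ]
      exact ((IrreducibleSpace.isIrreducible_univ _).image _ (A.h y).continuous.continuousOn).2
    · obtain ⟨z, hz, hzy⟩ := hne y _ (hfn y)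
      refine ⟨z, hzy, ?_⟩
      rw [show Set.range (A.h y') = ((A.h y').opensRange : Set P) from rfl, A.range]
      show π z ∈ A.V y'
      rw [hz]
      exact hfn y'
  exact isIntegral_of_irreducibleSpace_of_isReduced P

theorem bundle_surjective : Surjective π := by
  refine ⟨fun w => ?_⟩
  haveI : Nonempty (A.V w : Scheme.{u}) := ⟨⟨w, A.mem w⟩⟩
  haveI : Nontrivial Γ(C, A.V w) := by
    haveI := A.affine w
    infer_instance
  haveI : Surjective (CohB1.ProjSpace.toSpec r Γ(C, A.V w)) := inferInstance
  obtain ⟨t, ht⟩ : w ∈ Set.range (A.affine w).fromSpec := by rw [IsAffineOpen.range_fromSpec]; exact A.mem w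
  obtain ⟨z, rfl⟩ := (CohB1.ProjSpace.toSpec r Γ(C, A.V w)).surjective t
  refine ⟨A.h w z, ?_⟩
  rw [← Scheme.Hom.comp_apply, A.comp w, Scheme.Hom.comp_apply]; exact ht

theorem bundle_smooth : Smooth π := by
  refine IsZariskiLocalAtTarget.of_iSup_eq_top (P := @Smooth) A.V
    (top_le_iff.1 fun y _ => Opens.mem_iSup.2 ⟨y, A.mem y⟩) fun y => ?_
  let ε : CohB1.ProjSpace r Γ(C, A.V y) ≅ (π ⁻¹ᵁ A.V y).toScheme :=
    IsOpenImmersion.isoOfRangeEq (A.h y) (π ⁻¹ᵁ A.V y).ι (by rw [Scheme.Opens.range_ι, ← A.range y]; rfl)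
  have e : π ∣_ A.V y = ε.inv ≫ CohB1.ProjSpace.toSpec r Γ(C, A.V y) ≫ (A.affine y).isoSpec.inv := by
    rw [← cancel_mono (A.V y).ι, ← cancel_epi ε.hom]
    simp only [Category.assoc, Iso.hom_inv_id_assoc, morphismRestrict_ι]
    rw [IsOpenImmersion.isoOfRangeEq_hom_fac_assoc]
    exact A.comp y
  rw [e]
  infer_instance

variable {k : Type u} [Field k] [IsAlgClosed k] [C.Over (Spec (CommRingCat.of k))]
  [IsProper (C ↘ Spec (CommRingCat.of k))] [Smooth (C ↘ Spec (CommRingCat.of k))] [IsIntegral C]

theorem bundle_fibre (y : C) (hy : IsClosed ({y} : Set C)) : Nonempty (π.fiber y ≅ CohB1.ProjSpace r k) := by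
  have hr : Set.range (C.fromSpecResidueField y) ⊆ Set.range (A.affine y).fromSpec := by
    rw [Scheme.range_fromSpecResidueField, IsAffineOpen.range_fromSpec]
    exact Set.singleton_subset_iff.2 (A.mem y)
  let l := IsOpenImmersion.lift (A.affine y).fromSpec (C.fromSpecResidueField y) hr
  let φ : Γ(C, A.V y) →+* C.residueField y := (Spec.preimage l).hom
  have hl : Spec.map (CommRingCat.ofHom φ) ≫ (A.affine y).fromSpec = C.fromSpecResidueField y := by
    show Spec.map (Spec.preimage l) ≫ _ = _
    rw [Spec.map_preimage, IsOpenImmersion.lift_fac]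
  have h1 := (Groth.L16.ProjSpace.isPullback_map r φ).paste_horiz (A.isPullback y)
  rw [hl] at h1
  let e := IsPullback.isoIsPullback _ _ (IsPullback.of_hasPullback π (C.fromSpecResidueField y)) h1
  letI : Algebra k (C.residueField y) := Curv2.resAlgebra k C y
  haveI : Module.Finite k (C.residueField y) := Groth.L21.Disc.finite_residueField_of_isClosed k hy
  have hb : Function.Bijective (algebraMap k (C.residueField y)) :=
    IsAlgClosed.algebraMap_bijective_of_isIntegral
  let θ : k →+* C.residueField y := algebraMap k (C.residueField y)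
  let iK : Spec (C.residueField y) ⟶ Spec (CommRingCat.of k) := Spec.map (CommRingCat.ofHom θ)
  haveI : IsIso (CommRingCat.ofHom θ) := (ConcreteCategory.isIso_iff_bijective _).2 hb
  haveI : IsIso iK := inferInstance
  have h2 := Groth.L16.ProjSpace.isPullback_map r θ
  haveI : IsIso (Groth.L16.ProjSpace.map r θ) := by
    rw [← h2.isoPullback_hom_fst]
    infer_instance
  exact ⟨e ≪≫ asIso (Groth.L16.ProjSpace.map r θ)⟩

theorem bundle_dim (hdimC : topologicalKrullDim C = 1) (hr : r = 1)
    [P.Over (Spec (CommRingCat.of k))] [IsProper (P ↘ Spec (CommRingCat.of k))] [IsIntegral P] :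
    topologicalKrullDim P = (2 : ℕ) := by
  subst hr
  haveI := Groth.L21.RR.isNoetherian_of_proper (X := C) k
  haveI := bundle_surjective A
  refine le_antisymm ((A.topologicalKrullDim_le).trans (by rw [hdimC]; norm_num)) ?_
  obtain ⟨y, hy⟩ : ∃ y : C, IsClosed ({y} : Set C) :=
    ⟨_, (Groth.L21.RR.exists_closed_specialization (genericPoint C)).choose_spec.1⟩
  haveI : IsClosedImmersion (C.fromSpecResidueField y) := isClosed_singleton_iff_isClosedImmersion.mp hy
  haveI : IsClosedImmersion (π.fiberι y) :=
    inferInstanceAs (IsClosedImmersion (pullback.fst π (C.fromSpecResidueField y)))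
  have hne : Set.range (π.fiberι y) ≠ Set.univ := by
    intro h
    have hyg : y ≠ genericPoint C := fun he => by
      rw [he] at hy
      exact Groth.L03.SurfNum.genericPoint_notMem_point k hdimC (he ▸ hy) rfl
    obtain ⟨x, hx⟩ := π.surjective (genericPoint C)
    have h1 : x ∈ Set.range (π.fiberι y) := by rw [h]; trivial
    rw [Scheme.Hom.range_fiberι] at h1
    exact hyg ((Set.mem_singleton_iff.1 h1).symm.trans hx)
  have h2 := Groth.L03.SurfFib.krullDim_add_one_le (π.fiberι y) (π.fiberι y).isClosedEmbedding hne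
  rw [A.topologicalKrullDim_fiber y] at h2
  exact le_trans (le_of_eq (by norm_num)) h2

end Groth.L03.Ruled
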